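import Groth.Agent.S7171
import Groth.Agent.PBlow.Main
import Groth.Agent.RegBlow6.Geometry
import Groth.Agent.KRegLib.Perfect
import Groth.Agent.KRegLib.FFDescent
import Groth.Agent.S15821
import Groth.Agent.BlowUpX.Basic
import Groth.Prelude.Def_MoreMor

/-!
# The blowing up in a regularly immersed closed subscheme is perfect
-/

set_option autoImplicit false
set_option linter.style.haveILetI false
set_option backward.isDefEq.respectTransparency false
set_option backward.isDefEq.respectTransparency.types false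

universe u

open CategoryTheory CategoryTheory.Limits AlgebraicGeometry TopologicalSpace MvPolynomial
attribute [local instance] HasDerivedCategory.standard

namespace Groth.Agent.PerfBlow

open WiebeLib

/-- An algebra isomorphic to a chart of the blowing up of a Koszul regular sequence. -/
theorem isLCI_chart {A B : Type u} [CommRing A] [CommRing B] [Algebra A B] {m : ℕ} (a : Fin (m + 1) → A)
    (k : Fin (m + 1)) (ha : IsExact a) (e : RegBlow6.chartAlg a k ≃ₐ[A] B) : LCI.IsLCI A B := by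
  let φ : MvPolynomial (Fin m) A →ₐ[A] B := e.toAlgHom.comp (PBlow.pres a k)
  have hφ : Function.Surjective φ := e.surjective.comp (PBlow.pres_surjective a k)
  have hker : RingHom.ker φ.toRingHom = Ideal.span (Set.range (PBlow.eqs a k)) := by
    rw [← PBlow.ker_pres a k ha]
    refine Ideal.ext fun p => ?_
    rw [RingHom.mem_ker, RingHom.mem_ker]
    exact e.map_eq_zero_iff (x := PBlow.pres a k p)
  refine ⟨Algebra.FiniteType.of_surjective φ hφ, m, φ, hφ, fun 𝔭 _ => ?_⟩
  refine ⟨1, fun h => 𝔭.isPrime.ne_top ((Ideal.eq_top_iff_one _).2 h),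
    List.ofFn fun i => algebraMap _ _ (PBlow.eqs a k i),
    KoszulFlatLib.isKoszulRegularSeq_of_isExact (isExact_map (PBlow.isExact_eqs a k ha)), ?_⟩
  rw [hker, Ideal.map_span, ← Set.range_comp]
  congr 1
  ext x
  simp [List.mem_ofFn]

variable {X X' : Scheme.{u}} {f : X' ⟶ X}

/-- A chart around a given point. -/
theorem exists_affine {J : X.IdealSheafData} (hf : BlowUp.IsBlowUp f J) {U : X.Opens} (hU : IsAffineOpen U)
    {n : ℕ} (a : Fin n → Γ(X, U)) (ha : IsExact a) (hspan : RegBlow6.cI a = J.ideal ⟨U, hU⟩)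
    (x : X') (hx : f x ∈ U) :
    ∃ (W : X'.Opens) (V : X.Opens) (hWV : W ≤ f ⁻¹ᵁ V), IsAffineOpen W ∧ IsAffineOpen V ∧ x ∈ W ∧
      (letI := (f.appLE V W hWV).hom.toAlgebra
       MoreMor.IsPerfectHom Γ(X, V) Γ(X', W)) := by
  let q := hU.fromSpec
  have hbU := BlowUpLib.isBlowUp_of_isPullback (IsPullback.of_hasPullback f q).flip hf
  rw [BlowUpLib.comap_fromSpec J ⟨U, hU⟩, ← hspan] at hbU
  obtain ⟨e, he⟩ := BlowUpLib.exists_iso (BlowUpLib.isBlowUp_local (RegBlow6.cI a)) hbU
  obtain ⟨w, hw⟩ : x ∈ Set.range (pullback.fst f q) := by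
    rw [Scheme.Pullback.range_fst, Set.mem_preimage, hU.range_fromSpec]
    exact hx
  obtain ⟨k, v, hv⟩ := RegBlow6.chart_covers_gens a (e.inv w)
  obtain ⟨m, rfl⟩ : ∃ m, n = m + 1 := ⟨n - 1, by have := k.2; omega⟩
  let B := RegBlow6.chartAlg a k
  let c : Spec (CommRingCat.of B) ⟶ X' :=
    BlowUpLib.chart (RegBlow6.cI a) ⟨a k, RegBlow6.mem_cI a k⟩ ≫ e.hom ≫ pullback.fst f q
  haveI : IsOpenImmersion c := inferInstance
  have hcv : c v = x := by
    have h1 : e.hom (e.inv w) = w := by rw [← Scheme.Hom.comp_apply, e.inv_hom_id]; rfl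
    show pullback.fst f q (e.hom (BlowUpLib.chart (RegBlow6.cI a) ⟨a k, RegBlow6.mem_cI a k⟩ v)) = _
    rw [hv, h1, hw]
  have hcf : c ≫ f = Spec.map (CommRingCat.ofHom (algebraMap Γ(X, U) B)) ≫ q := by
    simp only [c, Category.assoc, pullback.condition]
    rw [reassoc_of% he, BlowUpLib.chart_toBase_assoc]
  have hWU : c.opensRange ≤ f ⁻¹ᵁ U := by
    rintro _ ⟨z, rfl⟩
    show f (c z) ∈ U
    rw [← Scheme.Hom.comp_apply, hcf, ← SetLike.mem_coe, ← hU.range_fromSpec]
    exact Set.mem_range_self _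
  refine ⟨c.opensRange, U, hWU, isAffineOpen_opensRange c, hU, ⟨v, hcv⟩, ?_⟩
  letI := (f.appLE U c.opensRange hWU).hom.toAlgebra
  have htop : (⊤ : (Spec (CommRingCat.of B)).Opens) ≤ c ⁻¹ᵁ c.opensRange := fun z _ => ⟨z, rfl⟩
  let ψ : Γ(X', c.opensRange) →+* B :=
    ((Scheme.ΓSpecIso (CommRingCat.of B)).hom.hom).comp (c.appLE c.opensRange ⊤ htop).hom
  have hψ : Function.Bijective ψ :=
    (ConcreteCategory.bijective_of_isIso (Scheme.ΓSpecIso (CommRingCat.of B)).hom).comp
      (PBlow.appLE_bijective c htop le_rfl)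
  have hψA : ∀ r : Γ(X, U), ψ (f.appLE U c.opensRange hWU r) = algebraMap Γ(X, U) B r := fun r => by
    have h2 : (⊤ : (Spec (CommRingCat.of B)).Opens) ≤
        (Spec.map (CommRingCat.ofHom (algebraMap Γ(X, U) B)) ≫ q) ⁻¹ᵁ U := by
      rw [← hcf]
      exact fun z _ => hWU ⟨z, rfl⟩
    show (Scheme.ΓSpecIso (CommRingCat.of B)).hom (c.appLE c.opensRange ⊤ htop (f.appLE U c.opensRange hWU r)) = _
    rw [PBlow.comp_appLE_apply c f U c.opensRange ⊤ hWU htop hcf h2 r, PBlow.specFromSpec_appLE hU _ h2 r,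
      ← CommRingCat.comp_apply, Iso.inv_hom_id]
    rfl
  let ε : Γ(X', c.opensRange) ≃ₐ[Γ(X, U)] B :=
    AlgEquiv.ofBijective { ψ with commutes' := hψA } hψ
  exact KRegLib.isPerfectHom_of_isLCI (isLCI_chart a k ha ε.symm)

/-- The blowing up in a regularly immersed closed subscheme is perfect. -/
theorem isPerfectMor {Y : Scheme.{u}} (i : Y ⟶ X) (hi : Mor2.IsRegularClosedImmersion i)
    (hf : BlowUp.IsBlowUp f i.ker) : MoreMor.IsPerfectMor f := by
  haveI := hi.1
  refine (Groth.Agent.S7171.result f).2 fun x => ?_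
  by_cases hx : f x ∈ Set.range i
  · obtain ⟨z, hz⟩ := hx
    obtain ⟨U, hU, hzU, rs, hrs, hI⟩ := hi.2 z
    refine exists_affine hf hU rs.get ?_ ?_ x (hz ▸ hzU)
    · exact isExact_of_isKoszulRegularSeq _
        (by rw [List.ofFn_get]; exact (Groth.Agent.S15821.result _ rs hrs.toIsWeaklyRegular).1)
    · rw [hI, RegBlow6.cI, Set.range_list_get]
  · obtain ⟨U, hU, hxU, hUi⟩ := exists_isAffineOpen_mem_and_subset
      (show f x ∈ (⟨(Set.range i)ᶜ, i.isClosedEmbedding.isClosed_range.isOpen_compl⟩ : X.Opens) from hx)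
    refine exists_affine (n := 1) hf hU (fun _ => 1) ?_ ?_ x hxU
    · exact KRegLib.isExact_of_span_eq_top (by rw [Set.range_const, Ideal.span_singleton_one])
    · rw [RegBlow6.cI, Set.range_const, Ideal.span_singleton_one]
      refine (BlowUpX.ideal_eq_top_of_disjoint i.ker ⟨U, hU⟩ fun z hz hz' => ?_).symm
      refine hUi hz ?_
      rw [Scheme.Hom.support_ker, i.isClosedEmbedding.isClosed_range.closure_eq] at hz'
      exact hz'

end Groth.Agent.PerfBlow
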